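import Cfsg.Agent.Lib.Spor.Cos.Co1Mult.Table

/-! Data of a Sylow 11-subgroup of the automorphisms of the lattice modulo sign. -/

set_option autoImplicit false
set_option maxRecDepth 100000
set_option maxHeartbeats 8000000

open Cfsg.Agent.Grp.SchurM.Tails

namespace Cfsg.Agent.Spor.Cos.Co1Mult

/-- Presentation. -/
def pc11 : PC where
  p := 11
  n := 1
  rhs := [[]]
  defs := []

/-- Operations of the generators. -/
def ews11 : List (List (ℕ × ℕ)) :=
  [[(513639008018965514975008811697358163, 13842821), (0, 0), (439007227357121737815673487758154921, 2363013), (0, 0), (15033918049660443207698204789035042, 1769924), (0, 0), (149933975990386337339483116514133344, 13597413), (0, 0), (218747967049031349825613607269959111, 14336968)]]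

/-- Operations of the conjugating elements. -/
def gws11 : List (List (ℕ × ℕ)) :=
  [[(312328273769647095862729927569037367, 9144259), (0, 0), (559701992157872992248405192858447176, 8572393), (0, 0), (652495439168445525993463081930696215, 10208916), (0, 0), (185840906947632966695349152721154656, 7963548)]]

/-- Conjugation data. -/
def conj11 : List Conj :=
  [(0, [0], [0, 0, 0])]

/-- Equations. -/
def eqs11 : List Eqn :=
  [.fus [0] [0, 0, 0, 0, 0, 0, 0, 0, 0, 0, 0] []]

/-- Combinations. -/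
def combo11 : List (List ℕ) :=
  [[0, 0, 0, 0, 0]]

/-- The certificate. -/
def tab11 : OneCert := ⟨pc11, ews11, gws11, conj11, ⟨eqs11, 1, combo11⟩⟩

/-- Transversals. -/
def lev11 : List (List ℤ × List (List ℕ)) :=
  [([8, 0, 0, 0, 0, 0, 0, 0, 0, 0, 0, 0, 0, 0, 0, 0, 0, 0, 0, 0, 0, 0, 0, 0], [[0],
    [0, 0, 0],
    [0, 0, 0, 0, 0, 0, 1],
    [0, 0, 0, 0, 0, 0, 0, 0, 0],
    [0, 0],
    [0, 0, 0, 0, 0, 0, 0, 0, 1],
    [0, 0, 0, 0],
    [0, 0, 0, 0, 0, 0, 0],
    [0, 0, 0, 0, 0, 0, 0, 0, 0, 0, 1],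
    [0, 0, 0, 0, 0],
    [1],
    [],
    [0, 0, 0, 0, 0, 1],
    [0, 0, 0, 0, 0, 0, 0, 0, 0, 0],
    [0, 0, 0, 0, 0, 0, 0, 1],
    [0, 0, 0, 0, 1],
    [0, 0, 0, 0, 0, 0, 0, 0],
    [0, 0, 1],
    [0, 0, 0, 0, 0, 0, 0, 0, 0, 1],
    [0, 0, 0, 0, 0, 0],
    [0, 0, 0, 1],
    [0, 1]])]

end Cfsg.Agent.Spor.Cos.Co1Mult
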