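import Cfsg.Agent.Lib.Spor.Cos.Co1Mult.Table

/-! Data of a Sylow 13-subgroup of the automorphisms of the lattice modulo sign. -/

set_option autoImplicit false
set_option maxRecDepth 100000
set_option maxHeartbeats 8000000

open Cfsg.Agent.Grp.SchurM.Tails

namespace Cfsg.Agent.Spor.Cos.Co1Mult

/-- Presentation. -/
def pc13 : PC where
  p := 13
  n := 1
  rhs := [[]]
  defs := []

/-- Operations of the generators. -/
def ews13 : List (List (ℕ × ℕ)) :=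
  [[(377791186968972761727226580993913364, 16598305), (0, 0), (678501965999827853155719317015365856, 11881652), (0, 0), (931548627670283562603477371607926848, 3801535), (0, 0), (137643487934400948732380510257098766, 11797828)]]

/-- Operations of the conjugating elements. -/
def gws13 : List (List (ℕ × ℕ)) :=
  [[(752031996811651409451106113628578185, 6411662), (0, 0), (761565356992779434737389392656384663, 4842653), (0, 0), (812735812092485645427143699739120000, 1151486)]]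

/-- Conjugation data. -/
def conj13 : List Conj :=
  [(0, [0], [0, 0])]

/-- Equations. -/
def eqs13 : List Eqn :=
  [.fus [0] [0, 0, 0, 0, 0, 0, 0, 0, 0, 0, 0, 0, 0] []]

/-- Combinations. -/
def combo13 : List (List ℕ) :=
  [[0, 0, 0, 0, 0, 0, 0, 0, 0, 0, 0, 0]]

/-- The certificate. -/
def tab13 : OneCert := ⟨pc13, ews13, gws13, conj13, ⟨eqs13, 1, combo13⟩⟩

/-- Transversals. -/
def lev13 : List (List ℤ × List (List ℕ)) :=
  [([8, 0, 0, 0, 0, 0, 0, 0, 0, 0, 0, 0, 0, 0, 0, 0, 0, 0, 0, 0, 0, 0, 0, 0], [[0, 0, 0, 1],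
    [0, 0, 0, 0, 0, 0, 0],
    [0, 0, 0, 0, 0, 0, 0, 0, 0, 1],
    [0, 0, 0, 0, 0, 0, 0, 0, 0, 0, 0, 0],
    [0, 0, 0, 0, 0, 0],
    [0, 0, 1],
    [0, 0, 0, 0, 0, 0, 0, 0, 0, 0, 1],
    [0, 0, 0, 0, 0, 0, 0, 0],
    [0, 0, 0, 0, 0],
    [0, 0, 0, 0, 0, 0, 0, 0, 0, 0, 0],
    [0, 1],
    [0, 0, 0, 0],
    [1],
    [],
    [0, 0, 0, 0, 1],
    [0],
    [0, 0, 0, 0, 0, 0, 0, 0, 0, 0, 0, 1],
    [0, 0, 0, 0, 0, 1],
    [0, 0, 0, 0, 0, 0, 0, 0, 1],
    [0, 0, 0, 0, 0, 0, 0, 0, 0, 0],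
    [0, 0],
    [0, 0, 0, 0, 0, 0, 1],
    [0, 0, 0, 0, 0, 0, 0, 0, 0, 0, 0, 0, 1],
    [0, 0, 0, 0, 0, 0, 0, 0, 0],
    [0, 0, 0, 0, 0, 0, 0, 1],
    [0, 0, 0]])]

end Cfsg.Agent.Spor.Cos.Co1Mult
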