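import Cfsg.Agent.Lib.Spor.Cos.Co1Mult.Table

/-! Data of a Sylow 7-subgroup of the automorphisms of the lattice modulo sign. -/

set_option autoImplicit false
set_option maxRecDepth 100000
set_option maxHeartbeats 8000000

open Cfsg.Agent.Grp.SchurM.Tails

namespace Cfsg.Agent.Spor.Cos.Co1Mult

/-- Presentation. -/
def pc7 : PC where
  p := 7
  n := 2
  rhs := [[],
    [0, 1],
    []]
  defs := []

/-- Operations of the generators. -/
def ews7 : List (List (ℕ × ℕ)) :=
  [[(191191553148699790717514444428780193, 14531789), (0, 0), (842634909559611241611586720402262380, 8369513), (0, 0), (319961605092071834868314353992588644, 12433898), (0, 0), (604066469741122504952942030410254039, 13525353)],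
    [(652975301925071123511928619308191922, 12227731), (0, 0), (761526441081417680742204913592146344, 8024242), (0, 0), (884780960059632666011981616017650711, 4953446), (0, 0), (854730140595461608590129411873475727, 12785423)]]

/-- Operations of the conjugating elements. -/
def gws7 : List (List (ℕ × ℕ)) :=
  [[(67685556634986532105370363716215821, 2913821), (0, 0), (279430125086798922895971747765831917, 15093882), (0, 0), (169092112145490789376853033589816899, 6406417), (0, 0), (594131844914051804710853697254841987, 3822531), (0, 0), (854667118312325923032011236257684782, 7641639)],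
    [(892481890842116503097149201686042784, 702724), (0, 0), (154115929651709871329220892224235142, 7079696), (0, 0), (305635776549475060365974377059374643, 5196593), (0, 0), (67032985420309283194116265149114673, 2921478)]]

/-- Conjugation data. -/
def conj7 : List Conj :=
  [(0, [0, 1], [0, 1]),
    (0, [0], [0, 0]),
    (1, [1, 1], [1])]

/-- Equations. -/
def eqs7 : List Eqn :=
  [.fus [0, 1] [0, 1] [1, 0],
    .fus [1] [0, 0, 0, 0, 0, 0, 0] [],
    .fus [2] [0, 0, 0, 0, 0, 0, 0] []]

/-- Combinations. -/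
def combo7 : List (List ℕ) :=
  [[1, 1, 1, 1, 1, 1],
    [0, 0, 0, 0, 0, 0],
    [2]]

/-- The certificate. -/
def tab7 : OneCert := ⟨pc7, ews7, gws7, conj7, ⟨eqs7, 3, combo7⟩⟩

/-- Transversals. -/
def lev7 : List (List ℤ × List (List ℕ)) :=
  [([0, 0, 0, 2, 0, 0, 2, 0, 0, 2, 0, 2, -2, 0, 0, 0, 0, -2, 0, -2, -2, 0, 0, 0], [[0, 1, 2],
    [1, 1, 1, 2],
    [1, 2],
    [0, 1, 1, 2],
    [0],
    [1, 1],
    [],
    [2],
    [1, 1, 2],
    [0, 2],
    [0, 1, 1],
    [1],
    [1, 1, 1],
    [0, 1]]),
    ([8, 0, 0, 0, 0, 0, 0, 0, 0, 0, 0, 0, 0, 0, 0, 0, 0, 0, 0, 0, 0, 0, 0, 0], [[0, 0, 1, 1, 1, 1, 1, 1],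
    [0, 0, 0, 0, 0, 1, 2],
    [0, 1, 1, 1, 2],
    [0, 0, 0, 0, 1, 1, 1, 1, 1],
    [0, 0, 0, 1, 1, 2],
    [0, 0, 0, 0, 0, 0, 1, 1, 1, 1],
    []])]

end Cfsg.Agent.Spor.Cos.Co1Mult
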