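import Cfsg.Agent.Lib.Spor.Leech.OneSimple
import Cfsg.Agent.Lib.Spor.Leech.Cert
import Cfsg.Agent.Lib.Spor.Leech.Frame
import Cfsg.Agent.Lib.Grp.SchurM.TailExp
import Cfsg.Prelude.Def_Spor_Conway

/-! Certificates between tails for the automorphisms of the lattice modulo sign, on packed vectors. -/

set_option autoImplicit false
set_option maxRecDepth 100000

open Cfsg Cfsg.Agent.Spor.Leech Cfsg.Agent.Grp.SchurM.Tails

namespace Cfsg.Agent.Spor.Cos.Co1Mult

/-- The packed opposite vector. -/
noncomputable def negP (X : ℕ) : ℕ := Golay.pack 24 fun i => 32 - Golay.get X i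

theorem negP_spec {x : Vec} (hx : Small x) : negP (encV x) = encV (-x) :=
  pack_congr 24 _ _ fun i hi => by
    have := hx (Golay.pt i)
    rw [get_encV hx hi, Pi.neg_apply]
    omega

/-- The packed images of the unit directions. -/
def axX : List ℕ := (List.range 24).map fun i => encV (Pi.single (Golay.pt i) 8)

/-- A Sylow certificate in operations on packed vectors. -/
structure OneCert where
  /-- the presentation -/
  P : PC
  /-- operations of the generators -/
  ews : List (List (ℕ × ℕ))
  /-- operations of the conjugating elements -/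
  gws : List (List (ℕ × ℕ))
  /-- conjugation data -/
  C : List Conj
  /-- the certificate -/
  K : Grp.SchurM.Tails.Cert

namespace OneCert

variable (S : OneCert)

/-- A letter on packed vectors; the letters beyond the generators are the sign. -/
noncomputable def app (k X : ℕ) : ℕ := bif Nat.blt k S.P.n then appWF (S.ews.getD k []) X else negP X

/-- A word on packed vectors, its last letter first. -/
noncomputable def go (w : List ℕ) (X : ℕ) : ℕ :=
  List.rec (motive := fun _ => ℕ) X (fun k _ r => forceN r fun Y => S.app k Y) w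

/-- The letters as automorphisms. -/
noncomputable def elem (k : ℕ) : Co0 := if k < S.P.n then wordG (S.ews.getD k []) else negCo

/-- The letters in the quotient. -/
noncomputable def e (k : ℕ) : Spor.Co1 := QuotientGroup.mk (S.elem k)

/-- The conjugating elements in the quotient. -/
noncomputable def gs (m : ℕ) : Spor.Co1 := QuotientGroup.mk (wordG (S.gws.getD m []))

/-- All operations are members. -/
noncomputable def chkOps : Bool := (S.ews ++ S.gws).all fun w => w.all opOk

/-- Two maps agree on the directions up to one sign. -/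
noncomputable def agreeS (u v : ℕ → ℕ) : Bool :=
  (axX.all fun X => Nat.beq (u X) (v X)) || axX.all fun X => Nat.beq (u X) (negP (v X))

/-- The relations and conjugations hold up to sign. -/
noncomputable def chkRel : Bool :=
  S.chkOps &&
    ((List.range S.P.n).all fun j => (List.range (j + 1)).all fun i =>
      agreeS (S.go (S.P.rule j i)) (S.go (S.P.lhs j i))) &&
    S.C.all fun c => agreeS (fun X => forceN (S.go c.2.1 X) (appWF (S.gws.getD c.1 [])))
      fun X => forceN (appWF (S.gws.getD c.1 []) X) (S.go c.2.2)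

/-- Increasing images. -/
noncomputable def inc (X : ℕ) : List (List ℕ) → ℕ → Bool :=
  fun l => List.rec (motive := fun _ => ℕ → Bool) (fun _ => true)
    (fun w _ r prev => forceN (S.go w X) fun k => Nat.blt prev (k + 1) && r (k + 1)) l

/-- Words fixing the earlier vectors with increasing images of the present one. -/
noncomputable def chkLev (fixed : List (List ℤ)) (l : List ℤ) (T : List (List ℕ)) : Bool :=
  inL (ofList l) && decide (sqNorm (ofList l) ≤ 64) &&
    (fixed.all fun f => forceN (encV (ofList f)) fun X => T.all fun w => Nat.beq (S.go w X) X) &&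
    forceN (encV (ofList l)) fun X => S.inc X T 0

/-- Levels. -/
noncomputable def chkLevels : List (List ℤ × List (List ℕ)) → List (List ℤ) → Bool :=
  fun L => List.rec (motive := fun _ => List (List ℤ) → Bool) (fun _ => true)
    (fun l _ r fixed => S.chkLev fixed l.1 l.2 && r (l.1 :: fixed)) L

/-- The levels multiply to twice the order. -/
noncomputable def chkChain (L : List (List ℤ × List (List ℕ))) : Bool :=
  S.chkLevels L [] && Nat.beq ((L.map fun l => l.2.length).prod) (2 * S.P.p ^ S.P.n)

variable {S}

theorem opsOk (h : S.chkOps = true) {ws : List (List (ℕ × ℕ))} (hws : ∀ w ∈ ws, w ∈ S.ews ++ S.gws) (k : ℕ) :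
    (ws.getD k []).all opOk = true := by
  rcases lt_or_ge k ws.length with hk | hk
  · rw [List.getD_eq_getElem _ _ hk]
    exact List.all_eq_true.1 h _ (hws _ (List.getElem_mem hk))
  · rw [List.getD_eq_default _ _ hk]; rfl

theorem ews_ok (h : S.chkOps = true) (k : ℕ) : (S.ews.getD k []).all opOk = true :=
  opsOk h (fun _ hw => List.mem_append_left _ hw) k

theorem gws_ok (h : S.chkOps = true) (k : ℕ) : (S.gws.getD k []).all opOk = true :=
  opsOk h (fun _ hw => List.mem_append_right _ hw) k

theorem app_spec (h : S.chkOps = true) (k : ℕ) (v : leechLattice) (hv : sqNorm (v : Vec) ≤ 64) :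
    S.app k (encV (v : Vec)) = encV ((S.elem k • v : leechLattice) : Vec) := by
  unfold app elem
  by_cases hk : k < S.P.n
  · rw [show Nat.blt k S.P.n = true from Nat.ble_eq_true_of_le hk, cond_true, if_pos hk, appWF_eq,
      appW_spec (ews_ok h k) v hv]
  · rw [show Nat.blt k S.P.n = false from Bool.eq_false_iff.2 fun e => hk (Nat.le_of_ble_eq_true e), cond_false,
      if_neg hk, negCo_apply, negP_spec (small_of_norm hv), AddSubgroup.coe_neg]

theorem go_spec (h : S.chkOps = true) : ∀ (w : List ℕ) (v : leechLattice), sqNorm (v : Vec) ≤ 64 →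
    S.go w (encV (v : Vec)) = encV ((evL S.elem w • v : leechLattice) : Vec)
  | [], v, _ => by simp [go, evL_nil]
  | k :: w, v, hv => by
    show forceN (S.go w (encV (v : Vec))) (fun Y => S.app k Y) = _
    rw [forceN_eq, go_spec h w v hv, app_spec h k _ ((co_norm _ _).trans_le hv), evL_cons, mul_smul]

theorem axX_mem (i : GolayPt) : encV ((axis i : leechLattice) : Vec) ∈ axX :=
  List.mem_map.2 ⟨Golay.idx i, List.mem_range.2 (Golay.idx_lt i), by rw [Golay.pt_idx, axis_val]⟩

theorem mk_eq {U V : Co0} {u v : ℕ → ℕ}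
    (hu : ∀ i, u (encV ((axis i : leechLattice) : Vec)) = encV ((U • axis i : leechLattice) : Vec))
    (hv : ∀ i, v (encV ((axis i : leechLattice) : Vec)) = encV ((V • axis i : leechLattice) : Vec))
    (h : agreeS u v = true) : (QuotientGroup.mk U : Spor.Co1) = QuotientGroup.mk V := by
  simp only [agreeS, Bool.or_eq_true, List.all_eq_true] at h
  have hn : ∀ (W : Co0) i, sqNorm ((W • axis i : leechLattice) : Vec) ≤ 64 := fun W i =>
    le_of_eq ((co_norm _ _).trans (axis_norm i))
  rcases h with h | h
  · refine congrArg _ (ext_axis fun i => Subtype.ext (encV_inj (small_of_norm (hn U i)) (small_of_norm (hn V i)) ?_))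
    rw [← hu, ← hv]
    exact Nat.eq_of_beq_eq_true (h _ (axX_mem i))
  · have e : U = negCo * V := by
      refine ext_axis fun i => Subtype.ext (encV_inj (small_of_norm (hn U i)) (small_of_norm (hn _ i)) ?_)
      rw [← hu, Nat.eq_of_beq_eq_true (h _ (axX_mem i)), hv, negP_spec (small_of_norm (hn V i)), mul_smul,
        negCo_apply, AddSubgroup.coe_neg]
    rw [e, QuotientGroup.mk_mul, (QuotientGroup.eq_one_iff negCo).2 (mem_center_iff.2 (Or.inr rfl)), one_mul]

theorem evL_e (w : List ℕ) : evL S.e w = QuotientGroup.mk (evL S.elem w) :=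
  (evL_map (QuotientGroup.mk' (Subgroup.center Co0)) S.elem w).symm

theorem eq_of_agree (h : S.chkOps = true) {u v : List ℕ} (he : agreeS (S.go u) (S.go v) = true) :
    evL S.e u = evL S.e v := by
  rw [evL_e, evL_e]
  exact mk_eq (fun i => go_spec h u _ (axis_norm i).le) (fun i => go_spec h v _ (axis_norm i).le) he

theorem rels (h : S.chkRel = true) : ∀ j < S.P.n, ∀ i ≤ j, evL S.e (S.P.rule j i) = lhsV S.P S.e j i := by
  simp only [chkRel, Bool.and_eq_true, List.all_eq_true, List.mem_range] at h
  intro j hj i hij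
  rw [eq_of_agree h.1.1 (h.1.2 j hj i (Nat.lt_succ_of_le hij)), lhsV, PC.lhs]
  split_ifs
  · next he => subst he; exact evL_replicate S.e _ _
  · simp [evL]

theorem conj (h : S.chkRel = true) : ConjOK S.e S.gs S.C := by
  simp only [chkRel, Bool.and_eq_true, List.all_eq_true] at h
  intro c hc
  have h1 := h.2 c hc
  rw [evL_e, evL_e, gs, ← QuotientGroup.mk_mul, ← QuotientGroup.mk_mul]
  refine mk_eq (fun i => ?_) (fun i => ?_) h1
  · rw [forceN_eq, go_spec h.1.1 _ _ (axis_norm i).le, appWF_eq,
      appW_spec (gws_ok h.1.1 _) _ ((co_norm _ _).trans_le (axis_norm i).le), mul_smul]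
  · rw [forceN_eq, appWF_eq, appW_spec (gws_ok h.1.1 _) _ (axis_norm i).le,
      go_spec h.1.1 _ _ ((co_norm _ _).trans_le (axis_norm i).le), mul_smul]

theorem inc_pairwise {X : ℕ} : ∀ {l : List (List ℕ)} {prev : ℕ}, S.inc X l prev = true →
    (∀ w ∈ l, prev ≤ S.go w X) ∧ l.Pairwise fun u v => S.go u X < S.go v X
  | [], _, _ => ⟨by simp, List.Pairwise.nil⟩
  | w :: l, prev, h => by
    simp only [inc, forceN_eq, Bool.and_eq_true] at h
    have h1 : prev < S.go w X + 1 := Nat.le_of_ble_eq_true h.1
    obtain ⟨h2, h3⟩ := inc_pairwise (l := l) (prev := S.go w X + 1) (by simpa only [inc, forceN_eq] using h.2)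
    refine ⟨?_, List.pairwise_cons.2 ⟨fun v hv => h2 v hv, h3⟩⟩
    intro v hv
    rcases List.mem_cons.1 hv with rfl | hv
    · omega
    · have := h2 v hv; omega

theorem le_card_of_levels [Finite Co0] (hops : S.chkOps = true) :
    ∀ (L : List (List ℤ × List (List ℕ))) (fixed : List (List ℤ)), S.chkLevels L fixed = true →
      ∀ (K : Subgroup Co0), (∀ x ∈ Subgroup.closure (Set.range S.elem),
        (∀ f ∈ fixed, ∀ v : leechLattice, (v : Vec) = ofList f → sqNorm (v : Vec) ≤ 64 → x • v = v) → x ∈ K) →
      (L.map fun l => l.2.length).prod ≤ Nat.card K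
  | [], _, _, K, _ => Nat.card_pos
  | (l, T) :: L, fixed, h, K, hK => by
    have hh : S.chkLev fixed l T = true ∧ S.chkLevels L (l :: fixed) = true := Bool.and_eq_true_iff.1 h
    simp only [chkLev, forceN_eq, Bool.and_eq_true, List.all_eq_true, decide_eq_true_eq] at hh
    obtain ⟨⟨⟨⟨hl, hn⟩, hfix⟩, hinc⟩, hrest⟩ := hh
    let b : leechLattice := ⟨ofList l, mem_of_inL hl⟩
    let Kb : Subgroup Co0 := K ⊓ MulAction.stabilizer Co0 b
    have ih := le_card_of_levels hops L (l :: fixed) hrest Kb fun x hx hf =>
      ⟨hK x hx fun f hf' => hf f (List.mem_cons_of_mem _ hf'),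
        MulAction.mem_stabilizer_iff.2 (hf l List.mem_cons_self b rfl hn)⟩
    let t : Fin T.length → Co0 := fun i => evL S.elem T[i.1]
    have ht : ∀ i, t i ∈ K := fun i => by
      refine hK _ (evL_mem fun k _ => Subgroup.subset_closure ⟨k, rfl⟩) fun f hf v hv hvn => ?_
      have h1 := Nat.eq_of_beq_eq_true (hfix f hf _ (List.getElem_mem i.2))
      rw [← hv, go_spec hops _ v hvn] at h1
      exact Subtype.ext (encV_inj (small_of_norm ((co_norm _ _).trans_le hvn)) (small_of_norm hvn) h1)
    obtain ⟨-, hpw⟩ := inc_pairwise hinc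
    have hdist : ∀ i j : Fin T.length, t i • b = t j • b → i = j := by
      intro i j e
      have e' : S.go T[i.1] (encV (ofList l)) = S.go T[j.1] (encV (ofList l)) := by
        rw [show ofList l = (b : Vec) from rfl, go_spec hops _ b hn, go_spec hops _ b hn]
        exact congrArg (fun z : leechLattice => encV (z : Vec)) e
      have key := List.pairwise_iff_getElem.1 hpw
      rcases lt_trichotomy i.1 j.1 with q | q | q
      · have := key i.1 j.1 i.2 j.2 q; omega
      · exact Fin.ext q
      · have := key j.1 i.1 j.2 i.2 q; omega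
    let f : Fin T.length × Kb → K := fun x => ⟨t x.1 * x.2.1, mul_mem (ht x.1) x.2.2.1⟩
    have hf : Function.Injective f := by
      rintro ⟨i, x⟩ ⟨j, y⟩ e
      have e1 : t i * x.1 = t j * y.1 := congrArg Subtype.val e
      have hx : x.1 • b = b := x.2.2
      have hy : y.1 • b = b := y.2.2
      have e2 := congrArg (fun z : Co0 => z • b) e1
      simp only [mul_smul, hx, hy] at e2
      obtain rfl := hdist i j e2
      exact Prod.ext rfl (Subtype.ext (mul_left_cancel e1))
    have hc := Nat.card_le_card_of_injective f hf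
    rw [Nat.card_prod, Nat.card_fin] at hc
    rw [List.map_cons, List.prod_cons]
    exact (Nat.mul_le_mul_left _ ih).trans hc

theorem card_le_two_mul (K : Subgroup Co0) [Finite Co0] :
    Nat.card K ≤ 2 * Nat.card (K.map (QuotientGroup.mk' (Subgroup.center Co0))) := by
  let φ := (QuotientGroup.mk' (Subgroup.center Co0)).comp K.subtype
  have h := φ.ker.card_mul_index
  rw [Subgroup.index_ker, show φ.range = K.map (QuotientGroup.mk' (Subgroup.center Co0)) by
    rw [MonoidHom.range_eq_map, ← Subgroup.map_map, ← MonoidHom.range_eq_map, Subgroup.range_subtype]] at h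
  rw [← h]
  refine Nat.mul_le_mul_right _ (card_center ▸ ?_)
  refine Nat.card_le_card_of_injective (fun x : φ.ker => (⟨x.1.1, ?_⟩ : Subgroup.center Co0)) fun a b e => ?_
  · exact (QuotientGroup.eq_one_iff _).1 x.2
  · exact Subtype.ext (Subtype.ext (congrArg Subtype.val e :))

instance finite_Co0 : Finite Co0 := Nat.finite_of_card_ne_zero (by rw [card_Co0]; norm_num)

theorem card_one : Nat.card Spor.Co1 = 4157776806543360000 := OneSimple.card_quot

theorem le_card (hops : S.chkOps = true) {L : List (List ℤ × List (List ℕ))} (hc : S.chkChain L = true) :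
    S.P.p ^ S.P.n ≤ Nat.card (Subgroup.closure (S.e '' {k | k < S.P.n})) := by
  simp only [chkChain, Bool.and_eq_true] at hc
  have h1 := le_card_of_levels hops L [] hc.1 (Subgroup.closure (Set.range S.elem)) fun x hx _ => hx
  rw [Nat.eq_of_beq_eq_true hc.2] at h1
  have hle : (Subgroup.closure (Set.range S.elem)).map (QuotientGroup.mk' (Subgroup.center Co0)) ≤
      Subgroup.closure (S.e '' {k | k < S.P.n}) := by
    rw [MonoidHom.map_closure, Subgroup.closure_le]
    rintro _ ⟨_, ⟨k, rfl⟩, rfl⟩
    by_cases hk : k < S.P.n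
    · exact Subgroup.subset_closure ⟨k, hk, rfl⟩
    · rw [show S.elem k = negCo from if_neg hk,
        show QuotientGroup.mk' (Subgroup.center Co0) negCo = 1 from
          (QuotientGroup.eq_one_iff negCo).2 (mem_center_iff.2 (Or.inr rfl))]
      exact one_mem _
  have h2 := (h1.trans (card_le_two_mul _)).trans (Nat.mul_le_mul_left 2 (Subgroup.card_le_of_le hle))
  exact Nat.le_of_mul_le_mul_left h2 two_pos

theorem index_ok (h : S.chkRel = true) {L : List (List ℤ × List (List ℕ))} (hc : S.chkChain L = true) {p : ℕ}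
    (hp : S.P.p = p) (hp0 : 0 < p) (hk : S.K.check S.P S.C = true)
    (hi : 4157776806543360000 / p ^ S.P.n % p ≠ 0) :
    ¬ p ∣ (Subgroup.closure (S.e '' {k | k < S.P.n})).index := by
  subst hp
  intro hdvd
  set H := Subgroup.closure (S.e '' {k | k < S.P.n})
  have hwf : S.P.wellFormed = true := by
    simp only [Grp.SchurM.Tails.Cert.check, Bool.and_eq_true] at hk
    exact hk.1.1.1
  have hops : S.chkOps = true := by
    simp only [chkRel, Bool.and_eq_true] at h
    exact h.1.1
  have hup : Nat.card H ≤ S.P.p ^ S.P.n := by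
    have h' := card_upper (P := S.P) hwf hp0 S.e (z := (1 : Spor.Co1)) (one_mem _)
      (fun j hj i hij => by rw [rels h j hj i hij, inv_mul_cancel]; exact one_mem _) _ _ (zero_add _)
    rw [Subgroup.zpowers_one_eq_bot, Subgroup.card_bot, one_mul] at h'
    refine le_trans (le_of_eq ?_) h'
    rw [upper, Set.singleton_union, Subgroup.closure_insert_one]
    simp only [Nat.zero_le, true_and]
    rfl
  have hH : Nat.card H = S.P.p ^ S.P.n := le_antisymm hup (le_card hops hc)
  have hmul := H.card_mul_index
  rw [hH, card_one] at hmul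
  refine hi ?_
  rw [← hmul, Nat.mul_div_cancel_left _ (pow_pos hp0 _)]
  exact Nat.dvd_iff_mod_eq_zero.1 hdvd

/-- The certificate gives a Sylow certificate. -/
theorem sylowCert {p : ℕ} (hp : S.P.p = p) (hp0 : 0 < p) (h : S.chkRel = true)
    {L : List (List ℤ × List (List ℕ))} (hc : S.chkChain L = true) (hk : S.K.check S.P S.C = true)
    (hf : S.P.R ≤ S.K.free) (hi : 4157776806543360000 / p ^ S.P.n % p ≠ 0) :
    Nonempty (SylowCert Spor.Co1 p) := by
  have hops : S.chkOps = true := by
    have h' := h; simp only [chkRel, Bool.and_eq_true] at h'; exact h'.1.1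
  exact ⟨⟨S.P, S.e, S.gs, S.C, S.K, hp, rels h, conj h, hk, hf, hp ▸ le_card hops hc, index_ok h hc hp hp0 hk hi⟩⟩

/-- The certificate gives a Sylow certificate with one free commutator. -/
theorem sylowExp {p : ℕ} (hp : S.P.p = p) (hp0 : 0 < p) (h : S.chkRel = true)
    {L : List (List ℤ × List (List ℕ))} (hc : S.chkChain L = true) (hk : S.K.check S.P S.C = true)
    {j i : ℕ} (hji : i < j ∧ j < S.P.n) (hf : S.K.free = tri j i) (hcm : S.P.rule j i = [i, j]) {m : ℕ}
    (hm : agreeS (S.go (List.replicate m j)) (S.go []) = true)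
    (hi : 4157776806543360000 / p ^ S.P.n % p ≠ 0) : ∃ T : SylowExp Spor.Co1 p, T.m = m := by
  have hops : S.chkOps = true := by
    have h' := h; simp only [chkRel, Bool.and_eq_true] at h'; exact h'.1.1
  have hpow : S.e j ^ m = 1 := by
    rw [← evL_replicate, eq_of_agree hops hm, evL_nil]
  exact ⟨⟨S.P, S.e, S.gs, S.C, S.K, j, i, hp, rels h, conj h, hk, hji.1, hji.2, hf, hcm, m, hpow,
    hp ▸ le_card hops hc, index_ok h hc hp hp0 hk hi⟩, rfl⟩

end OneCert

end Cfsg.Agent.Spor.Cos.Co1Mult
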