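import Cfsg.Agent.Lib.Spor.Cos.Co1Mult.Data13


/-! A Sylow 13-subgroup with equations for the tails. -/

set_option autoImplicit false
set_option maxRecDepth 100000
set_option maxHeartbeats 8000000

open Cfsg.Agent.Grp.SchurM.Tails

namespace Cfsg.Agent.Spor.Cos.Co1Mult

theorem tab13_rel : tab13.chkRel = true := by decide +kernel

theorem tab13_card : tab13.chkChain lev13 = true := by decide +kernel

theorem tab13_tails : tab13.K.check tab13.P tab13.C = true := by decide +kernel

/-- The certificate. -/
theorem sylow13 : Nonempty (SylowCert Cfsg.Spor.Co1 13) :=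
  OneCert.sylowCert rfl (by decide) tab13_rel tab13_card tab13_tails (le_of_eq rfl) (by decide +kernel)

end Cfsg.Agent.Spor.Cos.Co1Mult
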