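import Cfsg.Agent.Lib.Spor.Cos.Co1Mult.Tail2
import Cfsg.Agent.Lib.Spor.Cos.Co1Mult.Tail3
import Cfsg.Agent.Lib.Spor.Cos.Co1Mult.Tail5
import Cfsg.Agent.Lib.Spor.Cos.Co1Mult.Tail7
import Cfsg.Agent.Lib.Spor.Cos.Co1Mult.Tail11
import Cfsg.Agent.Lib.Spor.Cos.Co1Mult.Tail13
import Cfsg.Agent.Lib.Spor.Cos.Co1Mult.Tail23
import Cfsg.Agent.Lib.Grp.SchurM.SylowBounds

/-! The multiplier of Co₁ has order two. -/

set_option autoImplicit false
set_option maxRecDepth 100000

open Cfsg Cfsg.Agent.Spor.Leech Cfsg.Agent.Grp.SchurM Cfsg.Agent.Grp.SchurM.Tails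
open scoped commutatorElement

namespace Cfsg.Agent.Spor.Cos.Co1Mult

theorem negCo_mem : negCo ∈ commutator Co0 := by
  have hops : tab2.chkOps = true := by
    have h := tab2_rel
    simp only [OneCert.chkRel, Bool.and_eq_true] at h
    exact h.1.1
  obtain ⟨j, i, h⟩ : ∃ j i, (axX.all fun X => Nat.beq (tab2.go [j, i] X) (negP (tab2.go [i, j] X))) = true :=
    ⟨_, _, tab2_anti⟩
  set A := tab2.elem j
  set B := tab2.elem i
  have hab : A * B = negCo * (B * A) := by
    refine ext_axis fun q => Subtype.ext (encV_inj (small_of_norm ?_) (small_of_norm ?_) ?_)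
    · exact ((co_norm _ _).trans (axis_norm q)).le
    · exact ((co_norm _ _).trans (axis_norm q)).le
    have h1 := Nat.eq_of_beq_eq_true (List.all_eq_true.1 h _ (OneCert.axX_mem q))
    rw [OneCert.go_spec hops _ _ (axis_norm q).le, OneCert.go_spec hops _ _ (axis_norm q).le] at h1
    simp only [evL_cons, evL_nil, mul_one] at h1
    rw [h1, negP_spec (small_of_norm ((co_norm _ _).trans (axis_norm q)).le), mul_smul negCo, negCo_apply,
      AddSubgroup.coe_neg]
  have e : negCo = ⁅A, B⁆ := by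
    rw [commutatorElement_def, hab]; group
  rw [e, commutator_def]
  exact Subgroup.commutator_mem_commutator (Subgroup.mem_top _) (Subgroup.mem_top _)

theorem multiplier : Cfsg.HasCyclicSchurMultiplier Cfsg.Spor.Co1 2 := by
  haveI : Finite Cfsg.Spor.Co1 := Finite.of_surjective _ (QuotientGroup.mk'_surjective (Subgroup.center Co0))
  refine ⟨⟨↥Co0, inferInstance, inferInstance, QuotientGroup.mk' (Subgroup.center Co0),
    ⟨QuotientGroup.mk'_surjective _, (QuotientGroup.ker_mk' _).le, fun x hx => ?_⟩, ⟨?_⟩⟩, fun Δ _ _ σ hσ => ?_⟩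
  · rw [QuotientGroup.ker_mk', mem_center_iff] at hx
    rcases hx with rfl | rfl
    · exact one_mem _
    · exact negCo_mem
  · haveI : Fact (Nat.Prime 2) := ⟨Nat.prime_two⟩
    exact mulEquivOfPrimeCardEq (p := 2) (by rw [QuotientGroup.ker_mk', card_center]) (by simp)
  · obtain ⟨S, hS⟩ := sylow2
    suffices H : ∀ q, q.Prime → q ≠ 2 → q ∣ Nat.card Cfsg.Spor.Co1 → Nonempty (SylowCert Cfsg.Spor.Co1 q) by
      obtain ⟨c, hc, hc2, hle⟩ := exists_gen_of_exp S H σ hσ
      exact exists_surjective_zmod _ c hc (hS ▸ hc2) hle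
    intro q hq h2 hd
    rw [OneCert.card_one] at hd
    rw [show 4157776806543360000 = 2 ^ 21 * 3 ^ 9 * 5 ^ 4 * 7 ^ 2 * 11 * 13 * 23 by norm_num] at hd
    have key : ∀ r : ℕ, r.Prime → q ∣ r → q = r := fun r hr h => (Nat.prime_dvd_prime_iff_eq hq hr).1 h
    simp only [hq.dvd_mul] at hd
    rcases hd with (((((hd | hd) | hd) | hd) | hd) | hd) | hd
    · exact absurd (key 2 Nat.prime_two (hq.dvd_of_dvd_pow hd)) h2
    · obtain rfl := key 3 Nat.prime_three (hq.dvd_of_dvd_pow hd); exact sylow3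
    · obtain rfl := key 5 (by norm_num) (hq.dvd_of_dvd_pow hd); exact sylow5
    · obtain rfl := key 7 (by norm_num) (hq.dvd_of_dvd_pow hd); exact sylow7
    · obtain rfl := key 11 (by norm_num) hd; exact sylow11
    · obtain rfl := key 13 (by norm_num) hd; exact sylow13
    · obtain rfl := key 23 (by norm_num) hd; exact sylow23

end Cfsg.Agent.Spor.Cos.Co1Mult
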